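import Groth.Agent.CAlgOdd.HartogsTwo
import Groth.Agent.RegLoc6.Basic
import Mathlib.RingTheory.Regular.Flat
import Mathlib.AlgebraicGeometry.Morphisms.Flat

/-! Morphisms from flat schemes to affine schemes extend across points of depth two. -/

universe u

open CategoryTheory CategoryTheory.Limits AlgebraicGeometry IsLocalRing
open Groth.Agent.CAlgOdd.HartogsTwo
open scoped Pointwise

set_option linter.style.haveILetI false

namespace Groth.Agent.H9HartogsHom

theorem isWeaklyRegular_pair {R : Type u} [CommRing R] {a b : R} (h1 : ∀ x : R, a * x = 0 → x = 0)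
    (h2 : ∀ x : R, a ∣ b * x → a ∣ x) : RingTheory.Sequence.IsWeaklyRegular R [a, b] := by
  have key : ∀ y : R, Submodule.Quotient.mk (p := a • (⊤ : Submodule R R)) y = 0 ↔ a ∣ y := fun y => by
    rw [Submodule.Quotient.mk_eq_zero, Submodule.mem_smul_pointwise_iff_exists]
    exact ⟨fun ⟨c, _, hc⟩ => ⟨c, hc.symm⟩, fun ⟨c, hc⟩ => ⟨c, Submodule.mem_top, hc.symm⟩⟩
  rw [RingTheory.Sequence.isWeaklyRegular_cons_iff, RingTheory.Sequence.isWeaklyRegular_cons_iff]
  refine ⟨isSMulRegular_iff_right_eq_zero_of_smul.mpr fun x hx => h1 x hx,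
    isSMulRegular_iff_right_eq_zero_of_smul.mpr fun x hx => ?_, RingTheory.Sequence.IsWeaklyRegular.nil _ _⟩
  obtain ⟨x, rfl⟩ := Submodule.Quotient.mk_surjective _ x
  exact (key x).2 (h2 x ((key (b * x)).1 hx))

theorem reg2_of_isRegularLocalRing (R : Type u) [CommRing R] [IsRegularLocalRing R]
    (h : (2 : WithBot ℕ∞) ≤ ringKrullDim R) : Reg2 R := by
  haveI := RegLoc6.isDomain_of_isRegularLocalRing R
  have hnf : ¬ IsField R := fun hF => by
    rw [ringKrullDim_eq_zero_of_isField hF] at h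
    exact absurd h (by decide)
  obtain ⟨a, ha, ha2⟩ := SetLike.not_le_iff_exists.1 (RegLoc6.maximalIdeal_sq_ne hnf)
  obtain ⟨hq, hdim⟩ := RegLoc6.isRegularLocalRing_quot_and ha ha2
  haveI := hq
  haveI := RegLoc6.isDomain_of_isRegularLocalRing (R ⧸ Ideal.span {a})
  have hP : (Ideal.span {a}).IsPrime := (Ideal.Quotient.isDomain_iff_prime _).1 ‹_›
  obtain ⟨b, hb, hb'⟩ : ∃ b ∈ maximalIdeal R, b ∉ Ideal.span {a} := by
    by_contra hc
    push Not at hc
    have e : Ideal.span {a} = maximalIdeal R :=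
      le_antisymm ((Ideal.span_singleton_le_iff_mem _).2 ha) hc
    haveI : (Ideal.span {a}).IsMaximal := e ▸ maximalIdeal.isMaximal R
    rw [ringKrullDim_eq_zero_of_isField ((Ideal.Quotient.maximal_ideal_iff_isField_quotient _).1 ‹_›), zero_add] at hdim
    rw [← hdim] at h
    exact absurd h (by decide)
  have ha0 : a ≠ 0 := fun h0 => ha2 (h0 ▸ zero_mem _)
  refine ⟨a, b, ha, hb, fun x hx => (mul_eq_zero.1 hx).resolve_left ha0, fun x hx => ?_⟩
  rw [← Ideal.mem_span_singleton] at hx ⊢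
  exact (hP.mem_or_mem hx).resolve_left hb'

theorem reg2_of_flat {R S : Type u} [CommRing R] [IsLocalRing R] [CommRing S] [IsLocalRing S]
    (φ : R →+* S) [IsLocalHom φ] (hφ : φ.Flat) (h : Reg2 R) : Reg2 S := by
  obtain ⟨a, b, ha, hb, h1, h2⟩ := h
  letI := φ.toAlgebra
  haveI : Module.Flat R S := hφ
  exact reg2_of_isWeaklyRegular (map_nonunit φ a ha) (map_nonunit φ b hb) ((isWeaklyRegular_pair h1 h2).of_flat (S := S))

variable {X : Scheme.{u}} (U : X.Opens)

/-- Morphisms over `X` from a flat scheme to an affine one are determined by, and extend from, an open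
with complement of depth at least two. -/
theorem pullback_map_bijective [QuasiCompact U.ι] (hZ : ∀ z : X, z ∉ U → Reg2 (X.presheaf.stalk z))
    (P Q : Over X) [Flat P.hom] [IsAffineHom Q.hom] :
    Function.Bijective (fun h : P ⟶ Q => (Over.pullback U.ι).map h) := by
  let U' : P.left.Opens := P.hom ⁻¹ᵁ U
  haveI : QuasiCompact U'.ι := by
    have h1 : QuasiCompact ((pullbackRestrictIsoRestrict P.hom U).inv ≫ pullback.fst P.hom U.ι) := inferInstance
    rwa [pullbackRestrictIsoRestrict_inv_fst] at h1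
  have hZ' : ∀ q : P.left, q ∉ U' → Reg2 (P.left.presheaf.stalk q) := fun q hq =>
    reg2_of_flat (P.hom.stalkMap q).hom (Flat.stalkMap P.hom q) (hZ _ hq)
  let e := pullbackRestrictIsoRestrict P.hom U
  let Y := pullback Q.hom P.hom
  haveI : IsAffineHom (pullback.snd Q.hom P.hom) :=
    MorphismProperty.pullback_snd (P := @IsAffineHom) Q.hom P.hom inferInstance
  have hinv : e.inv ≫ pullback.fst P.hom U.ι = U'.ι := pullbackRestrictIsoRestrict_inv_fst P.hom U
  have hhom : e.hom ≫ U'.ι = pullback.fst P.hom U.ι := by rw [← hinv, e.hom_inv_id_assoc]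
  have key : ∀ h' : (Over.pullback U.ι).obj P ⟶ (Over.pullback U.ι).obj Q, ∃! s : P.left ⟶ Y,
      s ≫ pullback.snd Q.hom P.hom = 𝟙 _ ∧
        U'.ι ≫ s ≫ pullback.fst Q.hom P.hom = e.inv ≫ h'.left ≫ pullback.fst Q.hom U.ι := by
    intro h'
    have hw : h'.left ≫ pullback.snd Q.hom U.ι = pullback.snd P.hom U.ι := Over.w h'
    have hcond : (e.inv ≫ h'.left ≫ pullback.fst Q.hom U.ι) ≫ Q.hom = U'.ι ≫ P.hom := by
      simp only [Category.assoc]
      rw [pullback.condition (f := Q.hom) (g := U.ι), reassoc_of% hw, ← pullback.condition,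
        reassoc_of% hinv]
    obtain ⟨s, ⟨hs1, hs2⟩, hu⟩ := existsUnique_section U' hZ' (pullback.snd Q.hom P.hom)
      (pullback.lift _ U'.ι hcond) (pullback.lift_snd _ _ _)
    refine ⟨s, ⟨hs1, ?_⟩, fun s' hs' => hu s' ⟨hs'.1, ?_⟩⟩
    · rw [← Category.assoc, hs2, pullback.lift_fst]
    · apply pullback.hom_ext
      · rw [Category.assoc, hs'.2, pullback.lift_fst]
      · rw [Category.assoc, hs'.1, pullback.lift_snd, Category.comp_id]
  have hmap : ∀ (h : P ⟶ Q) (h' : (Over.pullback U.ι).obj P ⟶ (Over.pullback U.ι).obj Q),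
      (Over.pullback U.ι).map h = h' ↔ U'.ι ≫ h.left = e.inv ≫ h'.left ≫ pullback.fst Q.hom U.ι := by
    intro h h'
    have hL : ((Over.pullback U.ι).map h).left ≫ pullback.fst Q.hom U.ι = pullback.fst P.hom U.ι ≫ h.left :=
      pullback.lift_fst _ _ _
    constructor
    · intro hh
      rw [← hh, hL, reassoc_of% hinv]
    · intro hh
      ext1
      refine pullback.hom_ext ?_ ((Over.w ((Over.pullback U.ι).map h)).trans (Over.w h').symm)
      refine hL.trans ?_
      rw [← hhom, Category.assoc, hh, e.hom_inv_id_assoc]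
  refine ⟨fun h₁ h₂ h12 => ?_, fun h' => ?_⟩
  · obtain ⟨s, -, hu⟩ := key ((Over.pullback U.ι).map h₁)
    have mk : ∀ h : P ⟶ Q, (Over.pullback U.ι).map h = (Over.pullback U.ι).map h₁ →
        pullback.lift h.left (𝟙 P.left) ((Over.w h).trans (Category.id_comp P.hom).symm) = s := fun h hh =>
      hu _ ⟨pullback.lift_snd _ _ _, by rw [pullback.lift_fst]; exact (hmap h _).1 hh⟩
    have := congrArg (· ≫ pullback.fst Q.hom P.hom) ((mk h₁ rfl).trans (mk h₂ h12.symm).symm)
    simp only [pullback.lift_fst] at this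
    exact Over.OverMorphism.ext this
  · obtain ⟨s, ⟨hs1, hs2⟩, -⟩ := key h'
    refine ⟨Over.homMk (s ≫ pullback.fst Q.hom P.hom) ?_, (hmap _ _).2 hs2⟩
    rw [Category.assoc, pullback.condition, reassoc_of% hs1]

end Groth.Agent.H9HartogsHom
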